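import Mathlib
import Cfsg.Agent.KC.Def2

/-! Parts of the search, evaluated by the kernel. -/

set_option autoImplicit false

namespace Cfsg.Agent.KC

theorem c11_0 : chunk 10 [168, 360, 2448, 2520, 29120]
    [(1, 0), (1, 0), (41, 0)] = true := by
  decide +kernel

theorem c11_1 : chunk 10 [168, 360, 2448, 2520, 29120]
    [(1, 0), (1, 0), (41, 1)] = true := by
  decide +kernel

theorem c11_2_0 : chunk 10 [168, 360, 2448, 2520, 29120]
    [(1, 0), (1, 0), (41, 2), (5, 0)] = true := by
  decide +kernel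

theorem c11_2_1_0 : chunk 10 [168, 360, 2448, 2520, 29120]
    [(1, 0), (1, 0), (41, 2), (5, 1), (3, 0)] = true := by
  decide +kernel

theorem c11_2_1_1 : chunk 10 [168, 360, 2448, 2520, 29120]
    [(1, 0), (1, 0), (41, 2), (5, 1), (3, 1)] = true := by
  decide +kernel

theorem c11_2_1_2 : chunk 10 [168, 360, 2448, 2520, 29120]
    [(1, 0), (1, 0), (41, 2), (5, 1), (3, 2)] = true := by
  decide +kernel

theorem c11_2_2_0 : chunk 10 [168, 360, 2448, 2520, 29120]
    [(1, 0), (1, 0), (41, 2), (5, 2), (3, 0)] = true := by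
  decide +kernel

theorem c11_2_2_1 : chunk 10 [168, 360, 2448, 2520, 29120]
    [(1, 0), (1, 0), (41, 2), (5, 2), (3, 1)] = true := by
  decide +kernel

theorem c11_2_2_2 : chunk 10 [168, 360, 2448, 2520, 29120]
    [(1, 0), (1, 0), (41, 2), (5, 2), (3, 2)] = true := by
  decide +kernel

theorem c11_2_3 : chunk 10 [168, 360, 2448, 2520, 29120]
    [(1, 0), (1, 0), (41, 2), (5, 3)] = true := by
  decide +kernel

theorem c11_2_4 : chunk 10 [168, 360, 2448, 2520, 29120]
    [(1, 0), (1, 0), (41, 2), (5, 4)] = true := by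
  decide +kernel

theorem c11_3_0 : chunk 10 [168, 360, 2448, 2520, 29120]
    [(1, 0), (1, 0), (41, 3), (17, 0)] = true := by
  decide +kernel

theorem c11_3_1 : chunk 10 [168, 360, 2448, 2520, 29120]
    [(1, 0), (1, 0), (41, 3), (17, 1)] = true := by
  decide +kernel

theorem c11_3_2 : chunk 10 [168, 360, 2448, 2520, 29120]
    [(1, 0), (1, 0), (41, 3), (17, 2)] = true := by
  decide +kernel

theorem c11_3_3_0 : chunk 10 [168, 360, 2448, 2520, 29120]
    [(1, 0), (1, 0), (41, 3), (17, 3), (3, 0)] = true := by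
  decide +kernel

theorem c11_3_3_1 : chunk 10 [168, 360, 2448, 2520, 29120]
    [(1, 0), (1, 0), (41, 3), (17, 3), (3, 1)] = true := by
  decide +kernel

theorem c11_3_3_2 : chunk 10 [168, 360, 2448, 2520, 29120]
    [(1, 0), (1, 0), (41, 3), (17, 3), (3, 2)] = true := by
  decide +kernel

theorem c11_3_4 : chunk 10 [168, 360, 2448, 2520, 29120]
    [(1, 0), (1, 0), (41, 3), (17, 4)] = true := by
  decide +kernel

theorem c11_3_5 : chunk 10 [168, 360, 2448, 2520, 29120]
    [(1, 0), (1, 0), (41, 3), (17, 5)] = true := by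
  decide +kernel

theorem c11_3_6 : chunk 10 [168, 360, 2448, 2520, 29120]
    [(1, 0), (1, 0), (41, 3), (17, 6)] = true := by
  decide +kernel

theorem c11_3_7_0 : chunk 10 [168, 360, 2448, 2520, 29120]
    [(1, 0), (1, 0), (41, 3), (17, 7), (7, 0)] = true := by
  decide +kernel

theorem c11_3_7_1 : chunk 10 [168, 360, 2448, 2520, 29120]
    [(1, 0), (1, 0), (41, 3), (17, 7), (7, 1)] = true := by
  decide +kernel

theorem c11_3_7_2 : chunk 10 [168, 360, 2448, 2520, 29120]
    [(1, 0), (1, 0), (41, 3), (17, 7), (7, 2)] = true := by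
  decide +kernel

theorem c11_3_7_3 : chunk 10 [168, 360, 2448, 2520, 29120]
    [(1, 0), (1, 0), (41, 3), (17, 7), (7, 3)] = true := by
  decide +kernel

theorem c11_3_7_4 : chunk 10 [168, 360, 2448, 2520, 29120]
    [(1, 0), (1, 0), (41, 3), (17, 7), (7, 4)] = true := by
  decide +kernel

end Cfsg.Agent.KC
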