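import Mathlib
import Cfsg.Agent.KC.Def2

/-! Parts of the search, evaluated by the kernel. -/

set_option autoImplicit false
set_option maxRecDepth 4000

namespace Cfsg.Agent.KC

theorem c11_3_7_5 : chunk 10 [168, 360, 2448, 2520, 29120]
    [(1, 0), (1, 0), (41, 3), (17, 7), (7, 5)] = true := by
  decide +kernel

theorem c11_3_7_6 : chunk 10 [168, 360, 2448, 2520, 29120]
    [(1, 0), (1, 0), (41, 3), (17, 7), (7, 6)] = true := by
  decide +kernel

theorem c11_3_8 : chunk 10 [168, 360, 2448, 2520, 29120]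
    [(1, 0), (1, 0), (41, 3), (17, 8)] = true := by
  decide +kernel

theorem c11_3_9 : chunk 10 [168, 360, 2448, 2520, 29120]
    [(1, 0), (1, 0), (41, 3), (17, 9)] = true := by
  decide +kernel

theorem c11_3_10_0 : chunk 10 [168, 360, 2448, 2520, 29120]
    [(1, 0), (1, 0), (41, 3), (17, 10), (5, 0)] = true := by
  decide +kernel

theorem c11_3_10_1 : chunk 10 [168, 360, 2448, 2520, 29120]
    [(1, 0), (1, 0), (41, 3), (17, 10), (5, 1)] = true := by
  decide +kernel

theorem c11_3_10_2 : chunk 10 [168, 360, 2448, 2520, 29120]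
    [(1, 0), (1, 0), (41, 3), (17, 10), (5, 2)] = true := by
  decide +kernel

theorem c11_3_10_3 : chunk 10 [168, 360, 2448, 2520, 29120]
    [(1, 0), (1, 0), (41, 3), (17, 10), (5, 3)] = true := by
  decide +kernel

theorem c11_3_10_4 : chunk 10 [168, 360, 2448, 2520, 29120]
    [(1, 0), (1, 0), (41, 3), (17, 10), (5, 4)] = true := by
  decide +kernel

theorem c11_3_11_0 : chunk 10 [168, 360, 2448, 2520, 29120]
    [(1, 0), (1, 0), (41, 3), (17, 11), (3, 0)] = true := by
  decide +kernel

theorem c11_3_11_1 : chunk 10 [168, 360, 2448, 2520, 29120]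
    [(1, 0), (1, 0), (41, 3), (17, 11), (3, 1)] = true := by
  decide +kernel

theorem c11_3_11_2 : chunk 10 [168, 360, 2448, 2520, 29120]
    [(1, 0), (1, 0), (41, 3), (17, 11), (3, 2)] = true := by
  decide +kernel

theorem c11_3_12 : chunk 10 [168, 360, 2448, 2520, 29120]
    [(1, 0), (1, 0), (41, 3), (17, 12)] = true := by
  decide +kernel

theorem c11_3_13 : chunk 10 [168, 360, 2448, 2520, 29120]
    [(1, 0), (1, 0), (41, 3), (17, 13)] = true := by
  decide +kernel

theorem c11_3_14 : chunk 10 [168, 360, 2448, 2520, 29120]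
    [(1, 0), (1, 0), (41, 3), (17, 14)] = true := by
  decide +kernel

theorem c11_3_15 : chunk 10 [168, 360, 2448, 2520, 29120]
    [(1, 0), (1, 0), (41, 3), (17, 15)] = true := by
  decide +kernel

theorem c11_3_16 : chunk 10 [168, 360, 2448, 2520, 29120]
    [(1, 0), (1, 0), (41, 3), (17, 16)] = true := by
  decide +kernel

theorem c11_4 : chunk 10 [168, 360, 2448, 2520, 29120]
    [(1, 0), (1, 0), (41, 4)] = true := by
  decide +kernel

theorem c11_5_0 : chunk 10 [168, 360, 2448, 2520, 29120]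
    [(1, 0), (1, 0), (41, 5), (5, 0)] = true := by
  decide +kernel

theorem c11_5_1 : chunk 10 [168, 360, 2448, 2520, 29120]
    [(1, 0), (1, 0), (41, 5), (5, 1)] = true := by
  decide +kernel

theorem c11_5_2 : chunk 10 [168, 360, 2448, 2520, 29120]
    [(1, 0), (1, 0), (41, 5), (5, 2)] = true := by
  decide +kernel

theorem c11_5_3_0 : chunk 10 [168, 360, 2448, 2520, 29120]
    [(1, 0), (1, 0), (41, 5), (5, 3), (3, 0)] = true := by
  decide +kernel

theorem c11_5_3_1 : chunk 10 [168, 360, 2448, 2520, 29120]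
    [(1, 0), (1, 0), (41, 5), (5, 3), (3, 1)] = true := by
  decide +kernel

theorem c11_5_3_2 : chunk 10 [168, 360, 2448, 2520, 29120]
    [(1, 0), (1, 0), (41, 5), (5, 3), (3, 2)] = true := by
  decide +kernel

theorem c11_5_4 : chunk 10 [168, 360, 2448, 2520, 29120]
    [(1, 0), (1, 0), (41, 5), (5, 4)] = true := by
  decide +kernel

end Cfsg.Agent.KC
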