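import Mathlib
import Cfsg.Agent.KC.SndF
import Cfsg.Agent.KC.Run11A
import Cfsg.Agent.KC.Run11B
import Cfsg.Agent.KC.Run11C
import Cfsg.Agent.KC.Run11D
import Cfsg.Agent.KC.Run11E
import Cfsg.Agent.KC.Run11F
import Cfsg.Agent.KC.Run11G
import Cfsg.Agent.KC.Run11H
import Cfsg.Agent.KC.Run11I
import Cfsg.Agent.KC.Run11J
import Cfsg.Agent.KC.Run11K

/-! The parts of the search are put together. -/

set_option autoImplicit false

namespace Cfsg.Agent.KC

theorem w11_4_2_1 : W 10 [168, 360, 2448, 2520, 29120]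
    [(1, 0), (1, 0), (41, 2), (5, 1)] := by
  refine W_split 2 fun j => ?_
  fin_cases j
  exacts [W_of_chunk c11_2_1_0,
    W_of_chunk c11_2_1_1,
    W_of_chunk c11_2_1_2]

theorem w11_4_2_2 : W 10 [168, 360, 2448, 2520, 29120]
    [(1, 0), (1, 0), (41, 2), (5, 2)] := by
  refine W_split 2 fun j => ?_
  fin_cases j
  exacts [W_of_chunk c11_2_2_0,
    W_of_chunk c11_2_2_1,
    W_of_chunk c11_2_2_2]

theorem w11_3_2 : W 10 [168, 360, 2448, 2520, 29120]
    [(1, 0), (1, 0), (41, 2)] := by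
  refine W_split 4 fun j => ?_
  fin_cases j
  exacts [W_of_chunk c11_2_0,
    w11_4_2_1,
    w11_4_2_2,
    W_of_chunk c11_2_3,
    W_of_chunk c11_2_4]

theorem w11_4_3_3 : W 10 [168, 360, 2448, 2520, 29120]
    [(1, 0), (1, 0), (41, 3), (17, 3)] := by
  refine W_split 2 fun j => ?_
  fin_cases j
  exacts [W_of_chunk c11_3_3_0,
    W_of_chunk c11_3_3_1,
    W_of_chunk c11_3_3_2]

theorem w11_4_3_7 : W 10 [168, 360, 2448, 2520, 29120]
    [(1, 0), (1, 0), (41, 3), (17, 7)] := by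
  refine W_split 6 fun j => ?_
  fin_cases j
  exacts [W_of_chunk c11_3_7_0,
    W_of_chunk c11_3_7_1,
    W_of_chunk c11_3_7_2,
    W_of_chunk c11_3_7_3,
    W_of_chunk c11_3_7_4,
    W_of_chunk c11_3_7_5,
    W_of_chunk c11_3_7_6]

theorem w11_4_3_10 : W 10 [168, 360, 2448, 2520, 29120]
    [(1, 0), (1, 0), (41, 3), (17, 10)] := by
  refine W_split 4 fun j => ?_
  fin_cases j
  exacts [W_of_chunk c11_3_10_0,
    W_of_chunk c11_3_10_1,
    W_of_chunk c11_3_10_2,
    W_of_chunk c11_3_10_3,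
    W_of_chunk c11_3_10_4]

theorem w11_4_3_11 : W 10 [168, 360, 2448, 2520, 29120]
    [(1, 0), (1, 0), (41, 3), (17, 11)] := by
  refine W_split 2 fun j => ?_
  fin_cases j
  exacts [W_of_chunk c11_3_11_0,
    W_of_chunk c11_3_11_1,
    W_of_chunk c11_3_11_2]

theorem w11_3_3 : W 10 [168, 360, 2448, 2520, 29120]
    [(1, 0), (1, 0), (41, 3)] := by
  refine W_split 16 fun j => ?_
  fin_cases j
  exacts [W_of_chunk c11_3_0,
    W_of_chunk c11_3_1,
    W_of_chunk c11_3_2,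
    w11_4_3_3,
    W_of_chunk c11_3_4,
    W_of_chunk c11_3_5,
    W_of_chunk c11_3_6,
    w11_4_3_7,
    W_of_chunk c11_3_8,
    W_of_chunk c11_3_9,
    w11_4_3_10,
    w11_4_3_11,
    W_of_chunk c11_3_12,
    W_of_chunk c11_3_13,
    W_of_chunk c11_3_14,
    W_of_chunk c11_3_15,
    W_of_chunk c11_3_16]

theorem w11_4_5_3 : W 10 [168, 360, 2448, 2520, 29120]
    [(1, 0), (1, 0), (41, 5), (5, 3)] := by
  refine W_split 2 fun j => ?_
  fin_cases j
  exacts [W_of_chunk c11_5_3_0,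
    W_of_chunk c11_5_3_1,
    W_of_chunk c11_5_3_2]

theorem w11_3_5 : W 10 [168, 360, 2448, 2520, 29120]
    [(1, 0), (1, 0), (41, 5)] := by
  refine W_split 4 fun j => ?_
  fin_cases j
  exacts [W_of_chunk c11_5_0,
    W_of_chunk c11_5_1,
    W_of_chunk c11_5_2,
    w11_4_5_3,
    W_of_chunk c11_5_4]

theorem w11_5_6_0_4 : W 10 [168, 360, 2448, 2520, 29120]
    [(1, 0), (1, 0), (41, 6), (15, 0), (5, 4)] := by
  refine W_split 2 fun j => ?_
  fin_cases j
  exacts [W_of_chunk c11_6_0_4_0,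
    W_of_chunk c11_6_0_4_1,
    W_of_chunk c11_6_0_4_2]

theorem w11_4_6_0 : W 10 [168, 360, 2448, 2520, 29120]
    [(1, 0), (1, 0), (41, 6), (15, 0)] := by
  refine W_split 4 fun j => ?_
  fin_cases j
  exacts [W_of_chunk c11_6_0_0,
    W_of_chunk c11_6_0_1,
    W_of_chunk c11_6_0_2,
    W_of_chunk c11_6_0_3,
    w11_5_6_0_4]

theorem w11_4_6_12 : W 10 [168, 360, 2448, 2520, 29120]
    [(1, 0), (1, 0), (41, 6), (15, 12)] := by
  refine W_split 2 fun j => ?_
  fin_cases j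
  exacts [W_of_chunk c11_6_12_0,
    W_of_chunk c11_6_12_1,
    W_of_chunk c11_6_12_2]

theorem w11_4_6_13 : W 10 [168, 360, 2448, 2520, 29120]
    [(1, 0), (1, 0), (41, 6), (15, 13)] := by
  refine W_split 2 fun j => ?_
  fin_cases j
  exacts [W_of_chunk c11_6_13_0,
    W_of_chunk c11_6_13_1,
    W_of_chunk c11_6_13_2]

theorem w11_3_6 : W 10 [168, 360, 2448, 2520, 29120]
    [(1, 0), (1, 0), (41, 6)] := by
  refine W_split 14 fun j => ?_
  fin_cases j
  exacts [w11_4_6_0,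
    W_of_chunk c11_6_1,
    W_of_chunk c11_6_2,
    W_of_chunk c11_6_3,
    W_of_chunk c11_6_4,
    W_of_chunk c11_6_5,
    W_of_chunk c11_6_6,
    W_of_chunk c11_6_7,
    W_of_chunk c11_6_8,
    W_of_chunk c11_6_9,
    W_of_chunk c11_6_10,
    W_of_chunk c11_6_11,
    w11_4_6_12,
    w11_4_6_13,
    W_of_chunk c11_6_14]

theorem w11_4_8_1 : W 10 [168, 360, 2448, 2520, 29120]
    [(1, 0), (1, 0), (41, 8), (5, 1)] := by
  refine W_split 2 fun j => ?_
  fin_cases j
  exacts [W_of_chunk c11_8_1_0,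
    W_of_chunk c11_8_1_1,
    W_of_chunk c11_8_1_2]

theorem w11_3_8 : W 10 [168, 360, 2448, 2520, 29120]
    [(1, 0), (1, 0), (41, 8)] := by
  refine W_split 4 fun j => ?_
  fin_cases j
  exacts [W_of_chunk c11_8_0,
    w11_4_8_1,
    W_of_chunk c11_8_2,
    W_of_chunk c11_8_3,
    W_of_chunk c11_8_4]

theorem w11_3_10 : W 10 [168, 360, 2448, 2520, 29120]
    [(1, 0), (1, 0), (41, 10)] := by
  refine W_split 2 fun j => ?_
  fin_cases j
  exacts [W_of_chunk c11_10_0,
    W_of_chunk c11_10_1,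
    W_of_chunk c11_10_2]

theorem w11_4_11_3 : W 10 [168, 360, 2448, 2520, 29120]
    [(1, 0), (1, 0), (41, 11), (5, 3)] := by
  refine W_split 2 fun j => ?_
  fin_cases j
  exacts [W_of_chunk c11_11_3_0,
    W_of_chunk c11_11_3_1,
    W_of_chunk c11_11_3_2]

theorem w11_3_11 : W 10 [168, 360, 2448, 2520, 29120]
    [(1, 0), (1, 0), (41, 11)] := by
  refine W_split 4 fun j => ?_
  fin_cases j
  exacts [W_of_chunk c11_11_0,
    W_of_chunk c11_11_1,
    W_of_chunk c11_11_2,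
    w11_4_11_3,
    W_of_chunk c11_11_4]

theorem w11_3_13 : W 10 [168, 360, 2448, 2520, 29120]
    [(1, 0), (1, 0), (41, 13)] := by
  refine W_split 2 fun j => ?_
  fin_cases j
  exacts [W_of_chunk c11_13_0,
    W_of_chunk c11_13_1,
    W_of_chunk c11_13_2]

theorem w11_3_14 : W 10 [168, 360, 2448, 2520, 29120]
    [(1, 0), (1, 0), (41, 14)] := by
  refine W_split 2 fun j => ?_
  fin_cases j
  exacts [W_of_chunk c11_14_0,
    W_of_chunk c11_14_1,
    W_of_chunk c11_14_2]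

theorem w11_3_15 : W 10 [168, 360, 2448, 2520, 29120]
    [(1, 0), (1, 0), (41, 15)] := by
  refine W_split 2 fun j => ?_
  fin_cases j
  exacts [W_of_chunk c11_15_0,
    W_of_chunk c11_15_1,
    W_of_chunk c11_15_2]

theorem w11_5_16_2_0 : W 10 [168, 360, 2448, 2520, 29120]
    [(1, 0), (1, 0), (41, 16), (9, 2), (3, 0)] := by
  refine W_split 2 fun j => ?_
  fin_cases j
  exacts [W_of_chunk c11_16_2_0_0,
    W_of_chunk c11_16_2_0_1,
    W_of_chunk c11_16_2_0_2]

theorem w11_4_16_2 : W 10 [168, 360, 2448, 2520, 29120]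
    [(1, 0), (1, 0), (41, 16), (9, 2)] := by
  refine W_split 2 fun j => ?_
  fin_cases j
  exacts [w11_5_16_2_0,
    W_of_chunk c11_16_2_1,
    W_of_chunk c11_16_2_2]

theorem w11_4_16_5 : W 10 [168, 360, 2448, 2520, 29120]
    [(1, 0), (1, 0), (41, 16), (9, 5)] := by
  refine W_split 2 fun j => ?_
  fin_cases j
  exacts [W_of_chunk c11_16_5_0,
    W_of_chunk c11_16_5_1,
    W_of_chunk c11_16_5_2]

theorem w11_4_16_6 : W 10 [168, 360, 2448, 2520, 29120]
    [(1, 0), (1, 0), (41, 16), (9, 6)] := by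
  refine W_split 2 fun j => ?_
  fin_cases j
  exacts [W_of_chunk c11_16_6_0,
    W_of_chunk c11_16_6_1,
    W_of_chunk c11_16_6_2]

theorem w11_3_16 : W 10 [168, 360, 2448, 2520, 29120]
    [(1, 0), (1, 0), (41, 16)] := by
  refine W_split 8 fun j => ?_
  fin_cases j
  exacts [W_of_chunk c11_16_0,
    W_of_chunk c11_16_1,
    w11_4_16_2,
    W_of_chunk c11_16_3,
    W_of_chunk c11_16_4,
    w11_4_16_5,
    w11_4_16_6,
    W_of_chunk c11_16_7,
    W_of_chunk c11_16_8]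

theorem w11_3_18 : W 10 [168, 360, 2448, 2520, 29120]
    [(1, 0), (1, 0), (41, 18)] := by
  refine W_split 4 fun j => ?_
  fin_cases j
  exacts [W_of_chunk c11_18_0,
    W_of_chunk c11_18_1,
    W_of_chunk c11_18_2,
    W_of_chunk c11_18_3,
    W_of_chunk c11_18_4]

theorem w11_4_19_2 : W 10 [168, 360, 2448, 2520, 29120]
    [(1, 0), (1, 0), (41, 19), (11, 2)] := by
  refine W_split 2 fun j => ?_
  fin_cases j
  exacts [W_of_chunk c11_19_2_0,
    W_of_chunk c11_19_2_1,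
    W_of_chunk c11_19_2_2]

theorem w11_4_19_3 : W 10 [168, 360, 2448, 2520, 29120]
    [(1, 0), (1, 0), (41, 19), (11, 3)] := by
  refine W_split 2 fun j => ?_
  fin_cases j
  exacts [W_of_chunk c11_19_3_0,
    W_of_chunk c11_19_3_1,
    W_of_chunk c11_19_3_2]

theorem w11_4_19_6 : W 10 [168, 360, 2448, 2520, 29120]
    [(1, 0), (1, 0), (41, 19), (11, 6)] := by
  refine W_split 2 fun j => ?_
  fin_cases j
  exacts [W_of_chunk c11_19_6_0,
    W_of_chunk c11_19_6_1,
    W_of_chunk c11_19_6_2]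

theorem w11_3_19 : W 10 [168, 360, 2448, 2520, 29120]
    [(1, 0), (1, 0), (41, 19)] := by
  refine W_split 10 fun j => ?_
  fin_cases j
  exacts [W_of_chunk c11_19_0,
    W_of_chunk c11_19_1,
    w11_4_19_2,
    w11_4_19_3,
    W_of_chunk c11_19_4,
    W_of_chunk c11_19_5,
    w11_4_19_6,
    W_of_chunk c11_19_7,
    W_of_chunk c11_19_8,
    W_of_chunk c11_19_9,
    W_of_chunk c11_19_10]

theorem w11_3_21 : W 10 [168, 360, 2448, 2520, 29120]
    [(1, 0), (1, 0), (41, 21)] := by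
  refine W_split 6 fun j => ?_
  fin_cases j
  exacts [W_of_chunk c11_21_0,
    W_of_chunk c11_21_1,
    W_of_chunk c11_21_2,
    W_of_chunk c11_21_3,
    W_of_chunk c11_21_4,
    W_of_chunk c11_21_5,
    W_of_chunk c11_21_6]

theorem w11_3_23 : W 10 [168, 360, 2448, 2520, 29120]
    [(1, 0), (1, 0), (41, 23)] := by
  refine W_split 4 fun j => ?_
  fin_cases j
  exacts [W_of_chunk c11_23_0,
    W_of_chunk c11_23_1,
    W_of_chunk c11_23_2,
    W_of_chunk c11_23_3,
    W_of_chunk c11_23_4]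

theorem w11_3_24 : W 10 [168, 360, 2448, 2520, 29120]
    [(1, 0), (1, 0), (41, 24)] := by
  refine W_split 2 fun j => ?_
  fin_cases j
  exacts [W_of_chunk c11_24_0,
    W_of_chunk c11_24_1,
    W_of_chunk c11_24_2]

theorem w11_4_26_0 : W 10 [168, 360, 2448, 2520, 29120]
    [(1, 0), (1, 0), (41, 26), (7, 0)] := by
  refine W_split 2 fun j => ?_
  fin_cases j
  exacts [W_of_chunk c11_26_0_0,
    W_of_chunk c11_26_0_1,
    W_of_chunk c11_26_0_2]

theorem w11_4_26_2 : W 10 [168, 360, 2448, 2520, 29120]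
    [(1, 0), (1, 0), (41, 26), (7, 2)] := by
  refine W_split 2 fun j => ?_
  fin_cases j
  exacts [W_of_chunk c11_26_2_0,
    W_of_chunk c11_26_2_1,
    W_of_chunk c11_26_2_2]

theorem w11_3_26 : W 10 [168, 360, 2448, 2520, 29120]
    [(1, 0), (1, 0), (41, 26)] := by
  refine W_split 6 fun j => ?_
  fin_cases j
  exacts [w11_4_26_0,
    W_of_chunk c11_26_1,
    w11_4_26_2,
    W_of_chunk c11_26_3,
    W_of_chunk c11_26_4,
    W_of_chunk c11_26_5,
    W_of_chunk c11_26_6]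

theorem w11_4_29_0 : W 10 [168, 360, 2448, 2520, 29120]
    [(1, 0), (1, 0), (41, 29), (3, 0)] := by
  refine W_split 2 fun j => ?_
  fin_cases j
  exacts [W_of_chunk c11_29_0_0,
    W_of_chunk c11_29_0_1,
    W_of_chunk c11_29_0_2]

theorem w11_3_29 : W 10 [168, 360, 2448, 2520, 29120]
    [(1, 0), (1, 0), (41, 29)] := by
  refine W_split 2 fun j => ?_
  fin_cases j
  exacts [w11_4_29_0,
    W_of_chunk c11_29_1,
    W_of_chunk c11_29_2]

theorem w11_4_31_1 : W 10 [168, 360, 2448, 2520, 29120]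
    [(1, 0), (1, 0), (41, 31), (5, 1)] := by
  refine W_split 2 fun j => ?_
  fin_cases j
  exacts [W_of_chunk c11_31_1_0,
    W_of_chunk c11_31_1_1,
    W_of_chunk c11_31_1_2]

theorem w11_3_31 : W 10 [168, 360, 2448, 2520, 29120]
    [(1, 0), (1, 0), (41, 31)] := by
  refine W_split 4 fun j => ?_
  fin_cases j
  exacts [W_of_chunk c11_31_0,
    w11_4_31_1,
    W_of_chunk c11_31_2,
    W_of_chunk c11_31_3,
    W_of_chunk c11_31_4]

theorem w11_3_32 : W 10 [168, 360, 2448, 2520, 29120]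
    [(1, 0), (1, 0), (41, 32)] := by
  refine W_split 2 fun j => ?_
  fin_cases j
  exacts [W_of_chunk c11_32_0,
    W_of_chunk c11_32_1,
    W_of_chunk c11_32_2]

theorem w11_3_34 : W 10 [168, 360, 2448, 2520, 29120]
    [(1, 0), (1, 0), (41, 34)] := by
  refine W_split 4 fun j => ?_
  fin_cases j
  exacts [W_of_chunk c11_34_0,
    W_of_chunk c11_34_1,
    W_of_chunk c11_34_2,
    W_of_chunk c11_34_3,
    W_of_chunk c11_34_4]

theorem w11_4_36_0 : W 10 [168, 360, 2448, 2520, 29120]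
    [(1, 0), (1, 0), (41, 36), (7, 0)] := by
  refine W_split 2 fun j => ?_
  fin_cases j
  exacts [W_of_chunk c11_36_0_0,
    W_of_chunk c11_36_0_1,
    W_of_chunk c11_36_0_2]

theorem w11_4_36_5 : W 10 [168, 360, 2448, 2520, 29120]
    [(1, 0), (1, 0), (41, 36), (7, 5)] := by
  refine W_split 2 fun j => ?_
  fin_cases j
  exacts [W_of_chunk c11_36_5_0,
    W_of_chunk c11_36_5_1,
    W_of_chunk c11_36_5_2]

theorem w11_3_36 : W 10 [168, 360, 2448, 2520, 29120]
    [(1, 0), (1, 0), (41, 36)] := by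
  refine W_split 6 fun j => ?_
  fin_cases j
  exacts [w11_4_36_0,
    W_of_chunk c11_36_1,
    W_of_chunk c11_36_2,
    W_of_chunk c11_36_3,
    W_of_chunk c11_36_4,
    w11_4_36_5,
    W_of_chunk c11_36_6]

theorem w11_4_39_7 : W 10 [168, 360, 2448, 2520, 29120]
    [(1, 0), (1, 0), (41, 39), (11, 7)] := by
  refine W_split 2 fun j => ?_
  fin_cases j
  exacts [W_of_chunk c11_39_7_0,
    W_of_chunk c11_39_7_1,
    W_of_chunk c11_39_7_2]

theorem w11_4_39_10 : W 10 [168, 360, 2448, 2520, 29120]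
    [(1, 0), (1, 0), (41, 39), (11, 10)] := by
  refine W_split 2 fun j => ?_
  fin_cases j
  exacts [W_of_chunk c11_39_10_0,
    W_of_chunk c11_39_10_1,
    W_of_chunk c11_39_10_2]

theorem w11_3_39 : W 10 [168, 360, 2448, 2520, 29120]
    [(1, 0), (1, 0), (41, 39)] := by
  refine W_split 10 fun j => ?_
  fin_cases j
  exacts [W_of_chunk c11_39_0,
    W_of_chunk c11_39_1,
    W_of_chunk c11_39_2,
    W_of_chunk c11_39_3,
    W_of_chunk c11_39_4,
    W_of_chunk c11_39_5,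
    W_of_chunk c11_39_6,
    w11_4_39_7,
    W_of_chunk c11_39_8,
    W_of_chunk c11_39_9,
    w11_4_39_10]

theorem w11_2 : W 10 [168, 360, 2448, 2520, 29120]
    [(1, 0), (1, 0)] := by
  refine W_split 40 fun j => ?_
  fin_cases j
  exacts [W_of_chunk c11_0,
    W_of_chunk c11_1,
    w11_3_2,
    w11_3_3,
    W_of_chunk c11_4,
    w11_3_5,
    w11_3_6,
    W_of_chunk c11_7,
    w11_3_8,
    W_of_chunk c11_9,
    w11_3_10,
    w11_3_11,
    W_of_chunk c11_12,
    w11_3_13,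
    w11_3_14,
    w11_3_15,
    w11_3_16,
    W_of_chunk c11_17,
    w11_3_18,
    w11_3_19,
    W_of_chunk c11_20,
    w11_3_21,
    W_of_chunk c11_22,
    w11_3_23,
    w11_3_24,
    W_of_chunk c11_25,
    w11_3_26,
    W_of_chunk c11_27,
    W_of_chunk c11_28,
    w11_3_29,
    W_of_chunk c11_30,
    w11_3_31,
    w11_3_32,
    W_of_chunk c11_33,
    w11_3_34,
    W_of_chunk c11_35,
    w11_3_36,
    W_of_chunk c11_37,
    W_of_chunk c11_38,
    w11_3_39,
    W_of_chunk c11_40]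

theorem w11_1 : W 10 [168, 360, 2448, 2520, 29120]
    [(1, 0)] := by
  refine W_split 0 fun j => ?_
  fin_cases j
  exacts [w11_2]

theorem w11_0 : W 10 [168, 360, 2448, 2520, 29120]
    [] := by
  refine W_split 0 fun j => ?_
  fin_cases j
  exacts [w11_1]

end Cfsg.Agent.KC
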