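import Mathlib
import Cfsg.Agent.KC.Good

/-!
A search through the solutions of the class equation. The functions are written with recursors so
that the kernel evaluates them quickly.
-/

set_option autoImplicit false

namespace Cfsg.Agent.KC

/-- Lists of triples. -/
inductive L3 : Type
  | nil : L3
  | cons (a b c : ℕ) (t : L3) : L3

/-- A conditional in the form of the recursor. -/
scoped notation "IF " b " THEN " t " ELSE " e => @Bool.rec (fun _ => _) e t b
/-- Addition. -/
scoped infixl:65 " +' " => Nat.add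
/-- Subtraction. -/
scoped infixl:65 " -' " => Nat.sub
/-- Multiplication. -/
scoped infixl:70 " *' " => Nat.mul
/-- Division. -/
scoped infixl:70 " /' " => Nat.div
/-- Remainder. -/
scoped infixl:70 " %' " => Nat.mod
/-- Equality test. -/
scoped infix:50 " =' " => Nat.beq
/-- Order test. -/
scoped infix:50 " ≤' " => Nat.ble
/-- The part of `c` at the primes dividing `m`. -/
scoped notation "PART(" c ", " m ")" => Nat.gcd c (Nat.pow m (Nat.log2 c))
/-- Least common multiple. -/
scoped notation "LCM(" a ", " b ")" => Nat.div (Nat.mul a b) (Nat.gcd a b)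
/-- Maximum. -/
scoped notation "MAX(" a ", " b ")" => Nat.add a (Nat.sub b a)
/-- A bit is not set. -/
scoped notation "OFF(" M ", " d ")" => Nat.beq (Nat.mod (Nat.shiftRight M d) 2) 0
/-- Set a bit. -/
scoped notation "SET(" M ", " d ")" => Nat.lor M (Nat.pow 2 d)

/-- All members satisfy `p`. -/
noncomputable def allL (l : List ℕ) (p : ℕ → Bool) : Bool :=
  List.rec true (fun h _ ih => IF p h THEN ih ELSE false) l

/-- All numbers below `n` satisfy `p`. -/
noncomputable def allR (n : ℕ) (p : ℕ → Bool) : Bool :=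
  Nat.rec true (fun i ih => IF p i THEN ih ELSE false) n

/-- All members up to `hi` satisfy `p`; repeated members are skipped. -/
noncomputable def allN (hi : ℕ) (p : ℕ → Bool) (l : List ℕ) : ℕ → Bool :=
  List.rec (fun _ => true) (fun h _ ih M => IF h ≤' hi THEN
    (IF OFF(M, h) THEN (IF p h THEN ih SET(M, h) ELSE false) ELSE ih M) ELSE ih M) l

/-- The primes below 307. -/
def PL : List ℕ := [2, 3, 5, 7, 11, 13, 17, 19, 23, 29, 31, 37, 41, 43, 47, 53, 59, 61, 67, 71, 73,
  79, 83, 89, 97, 101, 103, 107, 109, 113, 127, 131, 137, 139, 149, 151, 157, 163, 167, 173, 179,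
  181, 191, 193, 197, 199, 211, 223, 227, 229, 233, 239, 241, 251, 257, 263, 269, 271, 277, 281,
  283, 293]

/-- Prime divisors by trial division. -/
noncomputable def facL (l : List ℕ) : ℕ → List ℕ :=
  List.rec (fun m => IF m =' 1 THEN [] ELSE [m]) (fun p _ ih m => IF p *' p ≤' m THEN
    (IF m %' p =' 0 THEN p :: ih (m /' PART(m, p)) ELSE ih m) ELSE (IF m =' 1 THEN [] ELSE [m])) l

/-- The product of a list. -/
noncomputable def prodL (l : List ℕ) : ℕ := List.rec 1 (fun h _ ih => h *' ih) l

/-- The product of the predecessors. -/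
noncomputable def prodP (l : List ℕ) : ℕ := List.rec 1 (fun h _ ih => (h -' 1) *' ih) l

/-- The members of `l` and their cofactors in `o`, in front of `t`. -/
noncomputable def cof (o : ℕ) (l t : List ℕ) : List ℕ := List.rec t (fun p _ ih => p :: (o /' p) :: ih) l

/-- The budget left after paying for the distinct members not marked in the mask. -/
noncomputable def room (l : List ℕ) : ℕ → ℕ → ℕ :=
  List.rec (fun _ b => b) (fun d _ ih M b => IF OFF(M, d) THEN
    Nat.rec 0 (fun b' _ => ih SET(M, d) b') b ELSE ih M b) l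

/-- The members not marked in the mask, in front of `t`. -/
noncomputable def filN (M : ℕ) (l t : List ℕ) : List ℕ :=
  List.rec t (fun d _ ih => IF OFF(M, d) THEN d :: ih ELSE ih) l

/-- Orders forced by the automizers of the subgroups of prime order. -/
noncomputable def eds (HB f : ℕ) (pr : List ℕ) : List ℕ :=
  List.rec [] (fun p _ ih => IF p ≤' 3 THEN ih ELSE
    (fun e => filN HB (e :: cof e (facL PL e) []) ih) ((p -' 1) /' Nat.gcd (p -' 1) f)) pr

/-- Record a demand. -/
noncomputable def addN (d m t : ℕ) (nd : L3) : L3 :=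
  L3.rec (L3.cons d m t L3.nil) (fun a b c tl ih => IF a =' d THEN L3.cons d MAX(m, b) (t *' c) tl
    ELSE L3.cons a b c ih) nd

/-- Record a list of plain demands. -/
noncomputable def addL (l : List ℕ) (nd : L3) : L3 := List.rec nd (fun d _ ih => addN d d 1 ih) l

/-- The token of an order. -/
noncomputable def tok (nd : L3) (d : ℕ) : ℕ := L3.rec 1 (fun a _ c _ ih => IF a =' d THEN c ELSE ih) nd

/-- Discharge the demand met by a class of order `o` with centralizer order `c`. -/
noncomputable def dis (o c g : ℕ) (nd : L3) : L3 :=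
  L3.rec L3.nil (fun a b t tl ih => IF a =' o THEN (IF c %' b =' 0 THEN
    (IF t =' g THEN tl ELSE L3.cons a a (t /' g) tl) ELSE L3.cons a b (t /' g) tl)
    ELSE L3.cons a b t ih) nd

/-- Demands for the powers. -/
noncomputable def addD (o c : ℕ) (pr : List ℕ) (nd : L3) : L3 :=
  List.rec nd (fun p _ ih => IF p =' o THEN ih ELSE
    addN (o /' p) c (IF c %' (p *' p) =' 0 THEN 1 ELSE p) (addN p c 1 ih)) pr

/-- Demands for central elements of Sylow subgroups. -/
noncomputable def addS (k L B : ℕ) (ps : List ℕ) (nd : L3) : L3 :=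
  IF k =' 1 THEN nd ELSE List.rec nd (fun p _ ih => IF k %' p =' 0 THEN
    (IF B %' PART(L, p) =' 0 THEN ih ELSE addN p PART(L, p) 1 ih) ELSE ih) ps

/-- The number of classes demanded. -/
noncomputable def demN (PP : ℕ) (nd : L3) : ℕ :=
  L3.rec 0 (fun _ _ t _ ih => (IF PP %' t =' 0 THEN 1 ELSE IF (PP *' PP) %' t =' 0 THEN 2 ELSE
    IF (PP *' PP *' PP) %' t =' 0 THEN 3 ELSE 4) +' ih) nd

/-- The scale of the fixed-point bounds. -/
def MM : ℕ := 1208925819614629174706176

/-- The mass lost by the demanded classes. -/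
noncomputable def loss (c : ℕ) (nd : L3) : ℕ :=
  L3.rec 0 (fun _ m _ _ ih => MM /' c -' Nat.succ (MM /' ((c +' m -' 1) /' m *' m)) +' ih) nd

/-- The mask of the demanded orders. -/
noncomputable def mask (nd : L3) : ℕ := L3.rec 3 (fun d _ _ _ ih => SET(ih, d)) nd

/-- The first entries. -/
noncomputable def keys (nd : L3) : List ℕ := L3.rec [] (fun d _ _ _ ih => d :: ih) nd

/-- The first entries and their successors, in front of `t`. -/
noncomputable def ords (nd : L3) (t : List ℕ) : List ℕ := L3.rec t (fun d _ _ _ ih => d :: Nat.succ d :: ih) nd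

/-- Products of two first entries. -/
noncomputable def prods (nd : L3) : List ℕ :=
  L3.rec [] (fun d _ _ tl ih => (d *' d) :: L3.rec ih (fun e _ _ _ r => (d *' e) :: r) tl) nd

/-- Insert without repetition. -/
noncomputable def ins (x : ℕ) (l : List ℕ) : List ℕ :=
  IF (List.rec false (fun h _ ih => IF h =' x THEN true ELSE ih) l : Bool) THEN l ELSE x :: l

/-- Candidates for the part of a centralizer order that is prime to the element order. -/
noncomputable def usL (o PP : ℕ) (cl : L3) : List ℕ :=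
  L3.rec [1] (fun a _ c _ ih => IF a %' o =' 0 THEN (IF a =' o THEN ih ELSE
    (fun q => IF Nat.gcd q o +' PP %' q =' 1 THEN
      List.rec ih (fun u _ r => IF Nat.gcd u q =' 1 THEN ins (u *' PART(c, q)) r ELSE r) ih
      ELSE ih) (a /' o)) ELSE ih) cl

/-- All multiples of `x` by powers of `p` in the range satisfy `k`. -/
noncomputable def pws (lo hi : ℕ) (k : ℕ → Bool) (p x : ℕ) : Bool :=
  Nat.rec (motive := fun _ => ℕ → Bool) (fun _ => false) (fun _ r y => IF y ≤' hi THEN
    (IF (IF lo ≤' y THEN k y ELSE true) THEN r (y *' p) ELSE false) ELSE true) 100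
    (x *' Nat.pow p (Nat.log2 (lo /' x) /' Nat.succ (Nat.log2 (p -' 1))))

/-- All multiples of the start value by products of members of `l` up to `hi` satisfy `k`. -/
noncomputable def smo (hi : ℕ) (k : ℕ → Bool) (l : List ℕ) : ℕ → Bool :=
  List.rec k (fun p _ ih =>
    Nat.rec (fun _ => false) (fun _ r x => IF x ≤' hi THEN (IF ih x THEN r (x *' p) ELSE false)
      ELSE true) 100) l

/-- New primes. -/
noncomputable def addP (PP : ℕ) (pr ps : List ℕ) : List ℕ :=
  List.rec ps (fun p _ ih => IF PP %' p =' 0 THEN ih ELSE p :: ih) pr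

/-- Small orders that are still possible. -/
noncomputable def filS (L A : ℕ) (sm : List ℕ) : List ℕ :=
  List.rec [] (fun n _ ih => IF n %' L =' 0 THEN (IF L ≤' A *' n THEN n :: ih ELSE ih) ELSE ih) sm

/-- The head of a list. -/
noncomputable def hd (l : List ℕ) (x : ℕ) : ℕ := List.rec x (fun h _ _ => h) l

/-- The tail of a list. -/
noncomputable def tl (l : List ℕ) : List ℕ := List.rec [] (fun _ t _ => t) l

/-- The state of the search. -/
structure St : Type where
  (cl nd : L3)
  (ps sm : List ℕ)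
  (s L A nmax dem PP B zp HB pc po pf : ℕ)

/-- The last stage: demands and mass. -/
noncomputable def stE (fin : ℕ → L3 → Bool) (k : St → Bool) (cl nd : L3) (ps sm : List ℕ)
    (s L A nmax PP B zp HB c o f dem : ℕ) : Bool :=
  IF dem ≤' s THEN (IF s =' 0 THEN (IF hd sm 6233 ≤' L THEN fin L cl ELSE true) ELSE
    IF A *' MM +' L *' loss c nd ≤' L *' (s *' Nat.succ (MM /' c) +'
      Nat.succ (MM /' MAX(MAX(hd sm 6233, L), 5 *' c))) THEN
      k ⟨cl, nd, ps, sm, s, L, A, nmax, dem, PP, B, zp, HB, c, o, f⟩ ELSE true) ELSE true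

/-- The stage of the tokens. -/
noncomputable def stD (fin : ℕ → L3 → Bool) (k : St → Bool) (cl nd : L3) (pr ps sm : List ℕ)
    (s L A nmax PP B zp HB c o f kk g : ℕ) : Bool :=
  IF (IF g =' 1 THEN true ELSE tok nd o %' g =' 0) THEN
    (fun nd' => stE fin k (L3.cons o f c cl) nd' ps sm s L A nmax PP B zp SET(HB, o) c o f
      (demN PP nd')) (addS kk L B ps (addD o c pr (dis o c g nd)))
  ELSE true

/-- The stage of the bound. -/
noncomputable def stC (fin : ℕ → L3 → Bool) (k : St → Bool) (cl nd : L3) (pr ps sm : List ℕ)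
    (s L A nmax PP B zp HB c o f kk : ℕ) : Bool :=
  IF (IF nmax =' 0 THEN true ELSE IF MAX(hd sm 6233, L) ≤' nmax THEN L ≤' A *' nmax ELSE false) THEN
    stD fin k cl nd pr ps sm s L A nmax PP B zp HB c o f kk
      ((fun u => u /' PART(u, u /' Nat.gcd u PP)) (c /' PART(c, o)))
  ELSE true

/-- The stage of a prime element order. -/
noncomputable def stP (K1 : ℕ) (fin : ℕ → L3 → Bool) (k : St → Bool) (cl nd : L3) (pr ps sm : List ℕ)
    (s L A nmax PP B zp HB c o f kk : ℕ) : Bool :=
  IF c %' (o *' o) =' 0 THEN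
    stC fin k cl nd pr ps sm s L A (IF o +' nmax =' 2 THEN K1 *' (c *' c) ELSE nmax) PP
      LCM(B, PART(c, o)) zp HB c o f (kk *' o)
  ELSE IF Nat.succ f =' o THEN true ELSE IF L %' (o *' o) =' 0 THEN true ELSE
    IF OFF(HB, o) THEN stC fin k cl nd pr ps sm s L A nmax PP LCM(B, o) (zp *' o) HB c o f kk
    ELSE true

/-- The stage of the mass. -/
noncomputable def stM (K1 : ℕ) (fin : ℕ → L3 → Bool) (k : St → Bool) (cl nd : L3) (pr ps sm : List ℕ)
    (ip : Bool) (s nmax PP B zp HB o f c kk L A : ℕ) : Bool :=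
  IF (IF s =' 0 THEN A =' 1 ELSE 1 ≤' A) THEN
    (IF zp %' Nat.gcd L (zp *' zp) =' 0 THEN
      (IF ip THEN stP K1 fin k cl nd pr ps (filS L A sm) s L A nmax PP B zp HB c o f kk
      ELSE stC fin k cl nd pr ps (filS L A sm) s L A nmax PP B zp HB c o f kk)
    ELSE true) ELSE true

/-- The stage of a chosen centralizer order. -/
noncomputable def stB (K1 : ℕ) (fin : ℕ → L3 → Bool) (k : St → Bool) (cl nd : L3) (pr ps sm : List ℕ)
    (ip : Bool) (s L0 A0 nmax PP B zp HB o f e c : ℕ) : Bool :=
  (fun kk => stM K1 fin k cl nd pr ps sm ip s nmax PP B zp HB o f c kk (L0 *' kk)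
    (A0 *' kk -' f *' (L0 *' kk /' c))) (e *' c /' Nat.gcd L0 (e *' c))

/-- The stage of a chosen number of classes. -/
noncomputable def stF (K1 : ℕ) (fin : ℕ → L3 → Bool) (k : St → Bool) (cl nd : L3) (pr ps sm ds us : List ℕ)
    (s L0 A0 nmax PP B zp HB pc po pf lo hi fr KM o ph i : ℕ) : Bool :=
  IF ph %' Nat.succ i =' 0 THEN (fun ed => IF Nat.succ i ≤' room (filN KM ed ds) KM (Nat.succ fr) THEN
    (fun kc => allL us fun u => smo hi kc (tl pr) (u *' (IF o =' 2 THEN 4 ELSE o)))
      (pws (IF (IF o =' po THEN Nat.succ i ≤' pf ELSE o ≤' po) THEN lo ELSE MAX(lo, Nat.succ pc)) hi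
        (stB K1 fin k cl (addL ed nd) pr ps sm (hd pr 0 =' o) (s -' Nat.succ i) L0 A0 nmax PP B zp HB
          o (Nat.succ i) (ph /' Nat.succ i)) (hd pr 0))
    ELSE true) (eds HB (Nat.succ i) pr) ELSE true

/-- The stage of a factored element order. -/
noncomputable def stG (K1 : ℕ) (fin : ℕ → L3 → Bool) (k : St → Bool) (cl nd : L3) (ps sm : List ℕ)
    (s L0 A0 nmax PP B zp HB pc po pf lo hi fr KM o : ℕ) (pr ds : List ℕ) : Bool :=
  allR (room ds KM (Nat.succ fr)) (stF K1 fin k cl nd pr (addP PP pr ps) sm ds (usL o PP cl)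
    s L0 A0 nmax LCM(PP, prodL pr) B zp HB pc po pf lo hi fr KM o (o /' prodL pr *' prodP pr))

/-- The stage of a chosen element order. -/
noncomputable def stA (K1 : ℕ) (fin : ℕ → L3 → Bool) (k : St → Bool) (cl nd : L3) (ps sm : List ℕ)
    (s L0 A0 nmax PP B zp HB pc po pf lo hi fr KM o : ℕ) : Bool :=
  IF Nat.gcd o zp =' 1 THEN (IF o ≤' 94248 THEN
    (fun pr => stG K1 fin k cl nd ps sm s L0 A0 nmax PP B zp HB pc po pf lo hi fr KM o pr
      (o :: cof o pr [])) (facL PL o)
  ELSE false) ELSE true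

/-- The candidates for the element order. -/
noncomputable def stO (cl nd : L3) (hi fr : ℕ) (p : ℕ → Bool) : Bool :=
  IF fr =' 0 THEN allL (keys nd) p ELSE IF fr =' 1 THEN
    allN hi p (2 :: ords nd (ords cl (prods nd))) 0 ELSE allR (hi -' 1) fun i => p (i +' 2)

/-- One level of the search. -/
noncomputable def lev (K1 : ℕ) (fin : ℕ → L3 → Bool) (k : St → Bool) (st : St) : Bool :=
  St.rec (fun cl nd ps sm s L A nmax dem PP B zp HB pc po pf =>
    (fun lo hi fr => IF lo ≤' hi THEN stO cl nd hi fr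
      (stA K1 fin k cl nd ps sm s L A nmax PP B zp HB pc po pf lo hi fr (mask nd)) ELSE true)
    MAX(pc, Nat.succ (L /' A)) (Nat.succ (5 *' s) *' L /' (5 *' A)) (s -' dem)) st

/-- Several levels of the search. -/
noncomputable def it (K1 : ℕ) (fin : ℕ → L3 → Bool) (k : St → Bool) (n : ℕ) : St → Bool :=
  Nat.rec k (fun _ ih => lev K1 fin ih) n

/-- A hash value. -/
noncomputable def hash (cl : L3) : ℕ := L3.rec 0 (fun a b c _ ih => ih *' 1009 +' (a *' 101 +' b *' 13 +' c)) cl

/-- Select a part of the search. -/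
noncomputable def sel (M j : ℕ) (k : St → Bool) (st : St) : Bool :=
  St.rec (fun cl nd ps sm s L A nmax dem PP B zp HB pc po pf =>
    IF hash cl %' M =' j THEN k ⟨cl, nd, ps, sm, s, L, A, nmax, dem, PP, B, zp, HB, pc, po, pf⟩
    ELSE true) st

/-- The initial state. -/
def st0 (K1 : ℕ) : St := ⟨L3.nil, L3.cons 2 4 1 L3.nil, [2], SM, K1, 4, 4, 0, 1, 2, 1, 1, 3, 5, 6, 0⟩

/-- The list of the entries. -/
def toL : L3 → List T
  | L3.nil => []
  | L3.cons a b c t => ⟨a, b, c⟩ :: toL t

/-- There is a class with the given order and centralizer order. -/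
def has (P : List T) (o c : ℕ) : Bool := P.any fun y => decide (y.o = o ∧ y.c = c)

/-- Configurations excluded by the principal block of a prime. -/
def KL : List (ℕ × ℕ × ℕ × ℕ × ℕ) := [(504, 7, 3, 7, 12), (7920, 5, 2, 10, 240), (13440, 3, 1, 6, 640),
  (16320, 3, 1, 6, 48), (21504, 3, 1, 6, 1024), (21504, 3, 1, 6, 3072), (32256, 7, 3, 7, 512),
  (86016, 3, 1, 6, 4096), (86016, 7, 2, 7, 12288), (87360, 3, 1, 12, 192), (92160, 5, 2, 5, 2048),
  (258048, 7, 3, 7, 4096), (2064384, 7, 3, 7, 32768)]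

/-- The test at a leaf of the search. -/
def finL (OK : List ℕ) (N : ℕ) (P : List T) : Bool :=
  decide (N ∈ OK) ||
  ([9, 15, 81, 32, 128, 2048, 256, 27, 64, 21, 243, 4, 6].any fun n => decide (n ∣ N ∧
    ¬ n ∣ (P.map fun y => if y.o ∣ n then y.f * (N / y.c) else 0).sum + 1)) ||
  decide (N = 7168 ∨ N = 12096) ||
  (KL.any fun k => decide (N = k.1) && has P 2 k.2.2.2.2 &&
    P.any fun y => decide (y.o = k.2.1 ∧ y.f = k.2.2.1 ∧ y.c = k.2.2.2.1)) ||
  (has P 6 6 && decide (P.countP (fun z => decide (z.o = 2)) ≤ 1 ∧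
    N ∉ [660, 1092, 5616, 7920, 175560])) ||
  (decide (N = 7920) && has P 5 5 && has P 11 11) ||
  ((P.all fun y => decide (y.o ≠ 6)) &&
    (decide (N = 6048) || (decide (N = 20160) && has P 5 5 && has P 7 7)))

/-- A part of the search. -/
noncomputable def part (K1 : ℕ) (OK : List ℕ) (M j M' j' : ℕ) : Bool :=
  it K1 (fun N cl => finL OK N (toL cl)) (sel M j (it K1 (fun N cl => finL OK N (toL cl))
    (sel M' j' (it K1 (fun N cl => finL OK N (toL cl)) (fun _ => false) K1)) 2)) 2 (st0 K1)

end Cfsg.Agent.KC
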