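import Mathlib
import Cfsg.Agent.Inv.SieveExtra
import Cfsg.Agent.Ch.Table
import Cfsg.Agent.FG.ClassCount
import Cfsg.Agent.S0497
import Cfsg.Agent.S0254
import Cfsg.Agent.S2480

/-!
Class numbers of simple groups of a few small orders, by a test on the character degrees.
-/

set_option autoImplicit false

namespace Cfsg.Agent.KC

open Finset Cfsg.Agent.Ch Cfsg.Agent.Inv Cfsg.Agent.Inv.PB Cfsg.Agent.Inv.Sieve

/-- Lower bound for the number of characters of degree `f` read off a block. -/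
def lb (L : List (ℤ × ℕ × ℕ)) (f : ℕ) : ℕ := (L.map fun a => if a.2.1 = f then a.2.2 else 0).sum

/-- Search for the multiplicities of the degrees. -/
def degRec (lo : ℕ → ℕ) : List ℕ → ℕ → ℕ → Bool
  | [], rem, k => rem == 0 && k == 0
  | d :: ds, rem, k => (List.range (k + 1)).any fun m => decide (lo d ≤ m) &&
      decide (m * (d * d) ≤ rem) && degRec lo ds (rem - m * (d * d)) (k - m)

/-- The nested principal-block tests. -/
def nest (n k : ℕ) (sc : Bool) : List ℕ → List ℕ → (ℕ → ℕ) → Bool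
  | [], ds, lo => degRec lo ds (n - 1) k
  | p :: ps, ds, lo => testExtra n p fun _ _ c L => (!sc || c == 1) && invTest n p c (divs n) L &&
      nest n k sc ps (ds.filter fun f => c != 1 || f % p == 0 || L.any fun a => Nat.beq a.2.1 f)
        (fun f => max (lo f) (lb L f))

/-- The test for `K` classes. -/
def kT (n K : ℕ) (sc : Bool) (ps : List ℕ) : Bool :=
  nest n (K - 1) sc ps ((divs n).dedup.filter fun f => 1 < f && f * f < n) (fun _ => 0)

theorem degRec_sound (lo cnt : ℕ → ℕ) : ∀ (ds : List ℕ) (rem k : ℕ), (∀ d ∈ ds, lo d ≤ cnt d) →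
    (ds.map cnt).sum = k → (ds.map fun d => cnt d * (d * d)).sum = rem →
    degRec lo ds rem k = true
  | [], rem, k, _, h1, h2 => by
    simp only [List.map_nil, List.sum_nil] at h1 h2
    simp [degRec, ← h1, ← h2]
  | d :: ds, rem, k, h0, h1, h2 => by
    simp only [List.map_cons, List.sum_cons] at h1 h2
    simp only [degRec, List.any_eq_true, List.mem_range, Bool.and_eq_true, decide_eq_true_eq]
    exact ⟨cnt d, by omega, ⟨h0 d (by simp), by omega⟩, degRec_sound lo cnt ds _ _
      (fun a ha => h0 a (by simp [ha])) (by omega) (by omega)⟩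

section

variable {G : Type*} [Group G] [Fintype G]

variable (G) in
open Classical in
/-- The number of non-trivial irreducible characters of degree `f`. -/
noncomputable def cnt (f : ℕ) : ℕ :=
  ((univ.erase (irrOne G)).filter fun χ : IrrCharacter G => charDegree (χ : G → ℂ) = f).card

theorem sum_cnt {ds : List ℕ} (hds : ds.Nodup)
    (h : ∀ χ : IrrCharacter G, χ ≠ irrOne G → charDegree (χ : G → ℂ) ∈ ds) (w : ℕ → ℕ) :
    w 1 + (ds.map fun d => cnt G d * w d).sum = ∑ χ : IrrCharacter G, w (charDegree (χ : G → ℂ)) := by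
  classical
  rw [← add_sum_erase _ _ (mem_univ (irrOne G)), deg_one, ← List.sum_toFinset _ hds,
    ← sum_fiberwise_of_maps_to (s := univ.erase (irrOne G)) (t := ds.toFinset)
      (g := fun χ : IrrCharacter G => charDegree (χ : G → ℂ))
      (fun χ hχ => List.mem_toFinset.2 (h χ (mem_erase.1 hχ).1))]
  congr 1
  refine sum_congr rfl fun d _ => ?_
  rw [sum_congr rfl (g := fun _ => w d) fun χ hχ => by rw [(mem_filter.1 hχ).2], sum_const,
    smul_eq_mul]
  congr!

theorem lb_le_cnt {p e : ℕ} {x : G} {l : P x →* ℂˣ} {S E : List (IrrCharacter G)}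
    {co : IrrCharacter G → ℤ} {mu : IrrCharacter G → ℕ} (h : Setup p x)
    (D : Data p e x l S E co mu) {L : List (IrrCharacter G)} (hL : L.Perm (S ++ E)) {f : ℕ}
    (hf : f ≠ 1) : lb (L.map (Sieve.key co mu)) f ≤ cnt G f := by
  classical
  have h1 := D.le (fun χ => if charDegree (χ : G → ℂ) = f then 1 else 0)
    (fun χ ψ h2 => by
      simp only [show charDegree (χ : G → ℂ) = charDegree (ψ : G → ℂ) from reg_deg h.prime χ ψ h2])
    (fun _ => by split_ifs <;> simp)
  rw [deg_one, if_neg hf.symm, zero_add, ← add_sum_erase _ _ (mem_univ (irrOne G)), deg_one,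
    if_neg hf.symm, zero_add, sum_boole, ← (hL.map _).sum_eq] at h1
  have h2 : ((lb (L.map (Sieve.key co mu)) f : ℕ) : ℤ) =
      (L.map fun χ : IrrCharacter G =>
        (mu χ : ℤ) * if charDegree (χ : G → ℂ) = f then 1 else 0).sum := by
    simp only [lb, List.map_map, Nat.cast_list_sum]
    refine congrArg _ (List.map_congr_left fun χ _ => ?_)
    by_cases h3 : charDegree (χ : G → ℂ) = f <;> simp [Sieve.key, h3]
  rw [← h2] at h1
  have h3 := Nat.cast_le.1 h1
  unfold cnt
  convert h3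

theorem nest_sound [IsSimpleGroup G] (hG : ¬ (Nat.card G).Prime) (sc : Bool) :
    ∀ (ps ds : List ℕ) (lo : ℕ → ℕ),
      (∀ p ∈ ps, p ≠ 2 ∧ ∃ x : G, Setup p x ∧ (sc = true → cc x = 1)) → ds.Nodup → 1 ∉ ds →
      (∀ χ : IrrCharacter G, χ ≠ irrOne G → charDegree (χ : G → ℂ) ∈ ds) →
      (∀ f, f ≠ 1 → lo f ≤ cnt G f) →
      nest (Nat.card G) (Nat.card (ConjClasses G) - 1) sc ps ds lo = true
  | [], ds, lo, _, h1, h2, h3, h4 => by
    have h5 := sum_cnt h1 h3 fun _ => 1
    have h6 := sum_cnt h1 h3 fun d => d * d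
    simp only [mul_one, sum_const, card_univ, smul_eq_mul] at h5
    change 1 + (ds.map (cnt G)).sum = _ at h5
    have h7 := sum_sq_charDegree (G := G)
    have h8 : ∑ χ : IrrCharacter G, charDegree (χ : G → ℂ) * charDegree (χ : G → ℂ) =
        Nat.card G := by
      rw [← h7]
      simp only [pow_two]
    have h9 : Fintype.card (IrrCharacter G) = Nat.card (ConjClasses G) := by
      rw [← Nat.card_eq_fintype_card, card_irr]
    simp only [nest]
    exact degRec_sound lo (cnt G) ds _ _ (fun d hd => h4 d fun h => h2 (h ▸ hd)) (by omega)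
      (by omega)
  | p :: ps, ds, lo, h0, h1, h2, h3, h4 => by
    obtain ⟨hp2, x, hx, hc⟩ := h0 p (by simp)
    have := Fact.mk hx.prime
    simp only [nest]
    refine testExtra_sound hG hx fun e l S E co mu D _ hfd L hL => ?_
    rw [invTest_sound hG hx hp2 D hfd hL, Bool.and_true, Bool.and_eq_true]
    refine ⟨?_, nest_sound hG sc ps _ _ (fun q hq => h0 q (by simp [hq])) (h1.filter _)
      (fun h => h2 (List.mem_filter.1 h).1) (fun χ hχ => List.mem_filter.2 ⟨h3 χ hχ, ?_⟩)
      fun f hf => max_le (h4 f hf) (lb_le_cnt hx D hL hf)⟩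
    · cases sc
      · rfl
      · simp [hc rfl]
    · by_cases h5 : cc x = 1
      · by_cases h6 : p ∣ charDegree (χ : G → ℂ)
        · simp [Nat.mod_eq_zero_of_dvd h6]
        · rw [any_degree hx D h5 rfl (fun h7 => h2 (h7 ▸ h3 χ hχ)) h6 hL, Bool.or_true]
      · simp [h5]

theorem kT_sound [IsSimpleGroup G] {n : ℕ} (hn : Nat.card G = n) (hG : ¬ n.Prime) (sc : Bool)
    (ps : List ℕ) (h : ∀ p ∈ ps, p ≠ 2 ∧ ∃ x : G, Setup p x ∧ (sc = true → cc x = 1)) :
    kT n (Nat.card (ConjClasses G)) sc ps = true := by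
  subst hn
  refine nest_sound hG sc ps _ _ h ((List.nodup_dedup _).filter _) (fun h1 => ?_)
    (fun χ hχ => ?_) fun _ _ => Nat.zero_le _
  · simpa using (List.mem_filter.1 h1).2
  · classical
    have h2 := sum_le_sum_of_subset (f := fun ψ : IrrCharacter G => charDegree (ψ : G → ℂ) ^ 2)
      (subset_univ {χ, irrOne G})
    rw [sum_pair hχ, deg_one] at h2
    have h3 := sum_sq_charDegree (G := G)
    have h4 : charDegree (χ : G → ℂ) * charDegree (χ : G → ℂ) < Nat.card G := by
      rw [← pow_two, ← h3]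
      convert Nat.lt_of_succ_le h2
    have h5 := CT.two_le_degree (CT.commutator_eq_top hG) χ.2 fun h6 => hχ (Subtype.ext h6)
    simp only [List.mem_filter, List.mem_dedup, Bool.and_eq_true, decide_eq_true_eq]
    exact ⟨mem_divs Nat.card_pos χ.2.charDegree_dvd_card, h5, h4⟩

end

variable {G : Type*} [Group G] [Finite G] [IsSimpleGroup G]

theorem ne_of_kT {n : ℕ} (hn : Nat.card G = n) (hG : ¬ n.Prime) (ps : List ℕ)
    (h : ∀ p ∈ ps, p ≠ 2 ∧ p.Prime ∧ p ∣ n ∧ ¬ p ^ 2 ∣ n) {K : ℕ} (hK : kT n K false ps = false) :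
    Nat.card (ConjClasses G) ≠ K := by
  have := Fintype.ofFinite G
  rintro rfl
  rw [kT_sound hn hG false ps fun p hp => by
    obtain ⟨h1, h2, h3, h4⟩ := h p hp
    have := Fact.mk h2
    obtain ⟨x, hx⟩ := exists_prime_orderOf_dvd_card' (G := G) p (hn ▸ h3)
    exact ⟨h1, x, ⟨h2, hx, hn ▸ h4⟩, by simp⟩] at hK
  simp at hK

theorem ne_of_kT_sc {n p q : ℕ} (hn : Nat.card G = n) (hG : ¬ n.Prime)
    (hp : p ≠ 2 ∧ p.Prime ∧ ¬ p ^ 2 ∣ n) (hq : q ≠ 2 ∧ q.Prime ∧ ¬ q ^ 2 ∣ n) {x y : G}
    (hx : orderOf x = p) (hx' : Nat.card (Subgroup.centralizer ({x} : Set G)) = p)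
    (hy : orderOf y = q) (hy' : Nat.card (Subgroup.centralizer ({y} : Set G)) = q) {K : ℕ}
    (hK : kT n K true [p, q] = false) : Nat.card (ConjClasses G) ≠ K := by
  have := Fintype.ofFinite G
  rintro rfl
  have key : ∀ {r : ℕ} {z : G}, r ≠ 2 ∧ r.Prime ∧ ¬ r ^ 2 ∣ n → orderOf z = r →
      Nat.card (Subgroup.centralizer ({z} : Set G)) = r →
      r ≠ 2 ∧ ∃ x : G, Setup r x ∧ (true = true → cc x = 1) := fun {r z} hr hz hz' => by
    have hs : Setup r z := ⟨hr.2.1, hz, hn ▸ hr.2.2⟩
    exact ⟨hr.1, z, hs, fun _ => Nat.eq_of_mul_eq_mul_right hr.2.1.pos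
      (by rw [← hs.card_C, one_mul]; exact hz')⟩
  rw [kT_sound hn hG true [p, q] fun r hr => by
    rcases List.mem_pair.1 hr with rfl | rfl
    · exact key hp hx hx'
    · exact key hq hy hy'] at hK
  simp at hK

theorem k_360 (h : Nat.card G = 360) : Nat.card (ConjClasses G) ≤ 7 := by
  have := Fact.mk Nat.prime_three
  have := Fintype.ofFinite (GaloisField 3 2)
  have hF : Fintype.card (GaloisField 3 2) = 9 := by
    rw [← Nat.card_eq_fintype_card, GaloisField.card 3 2 two_ne_zero]
    rfl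
  obtain ⟨e⟩ := S0497.result h
  obtain ⟨f⟩ := S0254.result hF
  have h1 := (S2480.result (F := GaloisField 3 2) 2 le_rfl).2
  rw [hF, FG.card_conjClasses_congr (f.trans e.symm)] at h1
  norm_num at h1
  omega

theorem k_small (h : Nat.card G = 60 ∨ Nat.card G = 168 ∨ Nat.card G = 360) :
    Nat.card (ConjClasses G) ≠ 9 ∧ Nat.card (ConjClasses G) ≠ 10 ∧
      Nat.card (ConjClasses G) ≠ 11 := by
  rcases h with h | h | h
  · exact ⟨ne_of_kT h (by norm_num) [5] (by decide) (by decide +kernel),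
      ne_of_kT h (by norm_num) [5] (by decide) (by decide +kernel),
      ne_of_kT h (by norm_num) [5] (by decide) (by decide +kernel)⟩
  · exact ⟨ne_of_kT h (by norm_num) [7] (by decide) (by decide +kernel),
      ne_of_kT h (by norm_num) [7] (by decide) (by decide +kernel),
      ne_of_kT h (by norm_num) [7] (by decide) (by decide +kernel)⟩
  · have := k_360 h
    omega

theorem k_2520 (h : Nat.card G = 2520) :
    Nat.card (ConjClasses G) ≠ 10 ∧ Nat.card (ConjClasses G) ≠ 11 :=
  ⟨ne_of_kT h (by norm_num) [5, 7] (by decide) (by decide +kernel),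
    ne_of_kT h (by norm_num) [5, 7] (by decide) (by decide +kernel)⟩

theorem k_7920 (h : Nat.card G = 7920) {x y : G} (hx : orderOf x = 5)
    (hx' : Nat.card (Subgroup.centralizer ({x} : Set G)) = 5) (hy : orderOf y = 11)
    (hy' : Nat.card (Subgroup.centralizer ({y} : Set G)) = 11) :
    Nat.card (ConjClasses G) ≠ 9 ∧ Nat.card (ConjClasses G) ≠ 11 :=
  ⟨ne_of_kT_sc h (by norm_num) (by decide) (by decide) hx hx' hy hy' (by decide +kernel),
    ne_of_kT_sc h (by norm_num) (by decide) (by decide) hx hx' hy hy' (by decide +kernel)⟩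

theorem k_20160 (h : Nat.card G = 20160) {x y : G} (hx : orderOf x = 5)
    (hx' : Nat.card (Subgroup.centralizer ({x} : Set G)) = 5) (hy : orderOf y = 7)
    (hy' : Nat.card (Subgroup.centralizer ({y} : Set G)) = 7) :
    Nat.card (ConjClasses G) ≠ 9 ∧ Nat.card (ConjClasses G) ≠ 11 :=
  ⟨ne_of_kT_sc h (by norm_num) (by decide) (by decide) hx hx' hy hy' (by decide +kernel),
    ne_of_kT_sc h (by norm_num) (by decide) (by decide) hx hx' hy hy' (by decide +kernel)⟩

theorem k_29120 (h : Nat.card G = 29120) :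
    Nat.card (ConjClasses G) ≠ 9 ∧ Nat.card (ConjClasses G) ≠ 10 :=
  ⟨ne_of_kT h (by norm_num) [5, 7, 13] (by decide) (by decide +kernel),
    ne_of_kT h (by norm_num) [5, 7, 13] (by decide) (by decide +kernel)⟩

end Cfsg.Agent.KC
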